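import Mathlib

/-!
# S5719, alternating groups: the numerical inequality (helper313)

`alt_num` : `7 ≤ m ≤ 160`, `1 ≤ k ≤ m / 2`, `f > 0` divisible by `2 ^ (k - 2 + v₂((k - 1)!))` and by all odd primes
`p ≤ min(m - 2 k, m - 3)`: then `m! ≤ 2 ^ k k! (m - 2 k)! f ^ 5`.
-/

set_option autoImplicit false

namespace Cfsg.Agent.H313.IF

/-- the odd primes up to `160` -/
def odds : List ℕ := [3, 5, 7, 11, 13, 17, 19, 23, 29, 31, 37, 41, 43, 47, 53, 59, 61, 67, 71, 73, 79, 83, 89, 97, 101,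
  103, 107, 109, 113, 127, 131, 137, 139, 149, 151, 157]

theorem odds_prime : ∀ p ∈ odds, p.Prime := by
  intro p hp
  simp only [odds, List.mem_cons, List.not_mem_nil, or_false] at hp
  rcases hp with rfl | rfl | rfl | rfl | rfl | rfl | rfl | rfl | rfl | rfl | rfl | rfl | rfl | rfl | rfl | rfl | rfl |
    rfl | rfl | rfl | rfl | rfl | rfl | rfl | rfl | rfl | rfl | rfl | rfl | rfl | rfl | rfl | rfl | rfl | rfl | rfl <;>
    norm_num

theorem odds_ge : ∀ p ∈ odds, 3 ≤ p := by decide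

/-- the odd primes at most `q` -/
def oddsTo (q : ℕ) : List ℕ := odds.filter fun p => Nat.ble p q

/-- Legendre for `p = 2` -/
def vv (j : ℕ) : ℕ := j / 2 + j / 4 + j / 8 + j / 16 + j / 32 + j / 64

theorem padic_eq {j : ℕ} (hj : j < 128) : padicValNat 2 j.factorial = vv j := by
  have : Fact (Nat.Prime 2) := ⟨Nat.prime_two⟩
  have hlog : Nat.log 2 j < 7 := by
    rcases Nat.eq_zero_or_pos j with rfl | h
    · simp
    · exact Nat.log_lt_of_lt_pow h.ne' (by norm_num; omega)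
  rw [padicValNat_factorial hlog]
  simp only [Finset.sum_Ico_eq_sum_range, Finset.sum_range_succ, Finset.sum_range_zero]
  unfold vv
  norm_num

/-- the bound -/
def lb (m k : ℕ) : ℕ := 2 ^ (k - 2 + vv (k - 1)) * (oddsTo (min (m - 2 * k) (m - 3))).prod

/-- the check -/
def chk (m : ℕ) : Bool :=
  (List.range (m / 2 + 1)).all fun k =>
    Nat.beq k 0 || Nat.ble m.factorial (2 ^ k * k.factorial * (m - 2 * k).factorial * lb m k ^ 5)

theorem chk_all : ((List.range 161).all fun m => Nat.blt m 7 || chk m) = true := by decide +kernel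

theorem le_of_chk {m k : ℕ} (h7 : 7 ≤ m) (hm : m ≤ 160) (hk : 1 ≤ k) (h2k : 2 * k ≤ m) :
    m.factorial ≤ 2 ^ k * k.factorial * (m - 2 * k).factorial * lb m k ^ 5 := by
  have h := List.all_eq_true.1 chk_all m (List.mem_range.2 (by omega))
  rw [Bool.or_eq_true, Nat.blt_eq] at h
  rcases h with h | h
  · omega
  · have h1 := List.all_eq_true.1 h k (List.mem_range.2 (by omega))
    rw [Bool.or_eq_true, Nat.beq_eq, Nat.ble_eq] at h1
    rcases h1 with h1 | h1
    · omega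
    · exact h1

theorem prod_dvd (f : ℕ) (l : List ℕ) (hl : l.Nodup) (hp : ∀ p ∈ l, p.Prime) (h : ∀ p ∈ l, p ∣ f) : l.prod ∣ f := by
  have h1 : ∏ p ∈ l.toFinset, p ∣ f :=
    Finset.prod_primes_dvd f (fun p hpl => (hp p (List.mem_toFinset.1 hpl)).prime)
      (fun p hpl => h p (List.mem_toFinset.1 hpl))
  rwa [List.prod_toFinset _ hl, List.map_id'] at h1

theorem lb_dvd {m k f : ℕ} (h2 : 2 ^ (k - 2 + vv (k - 1)) ∣ f)
    (hp : ∀ p : ℕ, p.Prime → 3 ≤ p → p ≤ m - 2 * k → p ≤ m - 3 → p ∣ f) : lb m k ∣ f := by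
  have hsub : ∀ p ∈ oddsTo (min (m - 2 * k) (m - 3)), p ∈ odds ∧ p ≤ m - 2 * k ∧ p ≤ m - 3 := by
    intro p h
    rw [oddsTo, List.mem_filter, Nat.ble_eq] at h
    exact ⟨h.1, by omega, by omega⟩
  have h3 : (oddsTo (min (m - 2 * k) (m - 3))).prod ∣ f := by
    refine prod_dvd f _ ?_ (fun p h => odds_prime p (hsub p h).1) fun p h => ?_
    · exact List.Nodup.filter _ (by decide)
    · obtain ⟨a, b, c⟩ := hsub p h
      exact hp p (odds_prime p a) (odds_ge p a) b c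
  refine Nat.Coprime.mul_dvd_of_dvd_of_dvd ?_ h2 h3
  apply Nat.Coprime.pow_left
  rw [Nat.coprime_two_left]
  have : ∀ l : List ℕ, (∀ p ∈ l, Odd p) → Odd l.prod := by
    intro l
    induction l with
    | nil => intro _; simp
    | cons a l ih =>
      intro h
      rw [List.prod_cons]
      exact (h a (by simp)).mul (ih fun p hp => h p (by simp [hp]))
  apply this
  intro p h
  obtain ⟨a, -, -⟩ := hsub p h
  exact (odds_prime p a).odd_of_ne_two (by have := odds_ge p a; omega)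

/-- **the numerical inequality**, with `padicValNat` -/
theorem alt_num {m k f : ℕ} (h7 : 7 ≤ m) (hm : m ≤ 160) (hk : 1 ≤ k) (h2k : 2 * k ≤ m) (hf : 0 < f)
    (h2 : 2 ^ (k - 2 + padicValNat 2 (k - 1).factorial) ∣ f)
    (hp : ∀ p : ℕ, p.Prime → 3 ≤ p → p ≤ m - 2 * k → p ≤ m - 3 → p ∣ f) :
    m.factorial ≤ 2 ^ k * k.factorial * (m - 2 * k).factorial * f ^ 5 := by
  rw [padic_eq (by omega)] at h2
  have h3 := Nat.le_of_dvd hf (lb_dvd h2 hp)
  exact (le_of_chk h7 hm hk h2k).trans (Nat.mul_le_mul_left _ (Nat.pow_le_pow_left h3 5))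

/-- the same with the `factorization` -/
theorem alt_num' {m k f : ℕ} (h7 : 7 ≤ m) (hm : m ≤ 160) (hk : 1 ≤ k) (h2k : 2 * k ≤ m) (hf : 0 < f)
    (h2 : 2 ^ (k - 2 + (k - 1).factorial.factorization 2) ∣ f)
    (hp : ∀ p : ℕ, p.Prime → 3 ≤ p → p ≤ m - 2 * k → p ≤ m - 3 → p ∣ f) :
    m.factorial ≤ 2 ^ k * k.factorial * (m - 2 * k).factorial * f ^ 5 := by
  refine alt_num h7 hm hk h2k hf ?_ hp
  rwa [Nat.factorization_def _ Nat.prime_two] at h2

/-- the same, if a power of two dividing `f` is `≥ 2 ^ (k - 2) · (2-part of (k - 1)!)` -/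
theorem alt_num'' {m k f a : ℕ} (h7 : 7 ≤ m) (hm : m ≤ 160) (hk : 1 ≤ k) (h2k : 2 * k ≤ m) (hf : 0 < f)
    (ha : k - 2 + (k - 1).factorial.factorization 2 ≤ a) (h2 : 2 ^ a ∣ f)
    (hp : ∀ p : ℕ, p.Prime → 3 ≤ p → p ≤ m - 2 * k → p ≤ m - 3 → p ∣ f) :
    m.factorial ≤ 2 ^ k * k.factorial * (m - 2 * k).factorial * f ^ 5 :=
  alt_num' h7 hm hk h2k hf ((Nat.pow_dvd_pow 2 ha).trans h2) hp

end Cfsg.Agent.H313.IF
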